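import Groth.Prelude.Def_W4c2lssmoduliGProp
import Groth.Agent.Lib.DVRVal.Criterion
import Groth.Agent.Lib.H12.Specialization
import Mathlib.AlgebraicGeometry.PullbackCarrier

/-! # The image of an invariant morphism with a G-universally closed composite -/

set_option autoImplicit false
set_option linter.style.haveILetI false
set_option backward.isDefEq.respectTransparency.types false
universe u

open CategoryTheory Limits MonoidalCategory CartesianMonoidalCategory AlgebraicGeometry IsLocalRing

namespace Groth.Agent.GUniv19

variable {k : Type u} [Field k] {G R S T : Over (Spec (CommRingCat.of k))} [GrpObj G]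
  {a : AlgGrp.Action G R} {f : R ⟶ S} {q : S ⟶ T}

/-- The lifting along discrete valuation rings, without the group. -/
theorem exists_lift (hf : W4c2lssmoduli.IsInvariantMor a f) (hp : W4c2lssmoduli.IsGUnivClosed a (f ≫ q))
    (A : Type u) [CommRing A] [IsDomain A] [IsDiscreteValuationRing A] (K : Type u) [Field K] [Algebra A K]
    [IsFractionRing A K] (g : Spec (CommRingCat.of K) ⟶ R.left) (h : Spec (CommRingCat.of A) ⟶ T.left)
    (hgh : g ≫ f.left ≫ q.left = Spec.map (CommRingCat.ofHom (algebraMap A K)) ≫ h) :
    ∃ i : Spec (CommRingCat.of A) ⟶ R.left, i ≫ f.left ≫ q.left = h ∧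
      Spec.map (CommRingCat.ofHom (algebraMap A K)) ≫ i ≫ f.left = g ≫ f.left := by
  let j := Spec.map (CommRingCat.ofHom (algebraMap A K))
  have hg : g ≫ R.hom = j ≫ h ≫ T.hom := by
    rw [← Over.w (f ≫ q), Over.comp_left, ← Category.assoc g, hgh, Category.assoc]
  obtain ⟨i, γ, hi, hj⟩ := hp.2 A K (h ≫ T.hom) (Over.homMk g hg) (Over.homMk h rfl)
    (Over.OverMorphism.ext hgh)
  refine ⟨i.left, congrArg CommaMorphism.left hi, ?_⟩
  have e := congrArg (· ≫ f) hj
  simp only [Category.assoc] at e
  rw [hf, lift_snd_assoc] at e
  exact congrArg CommaMorphism.left e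

variable [LocallyOfFiniteType R.hom] [CompactSpace R.left] [LocallyOfFiniteType S.hom]
  [LocallyOfFiniteType T.hom]

/-- Specializations in base changes are followed inside the base change of the image. -/
theorem exists_specializes (hf : W4c2lssmoduli.IsInvariantMor a f) (hp : W4c2lssmoduli.IsGUnivClosed a (f ≫ q))
    {Y' : Scheme.{u}} (g : Y' ⟶ T.left) [LocallyOfFiniteType g] (z : (pullback q.left g : Scheme.{u}))
    (hz : pullback.fst q.left g z ∈ Set.range f.left) (y' : Y') (hy : pullback.snd q.left g z ⤳ y') :
    ∃ z₁ : (pullback q.left g : Scheme.{u}), z ⤳ z₁ ∧ pullback.fst q.left g z₁ ∈ Set.range f.left ∧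
      pullback.snd q.left g z₁ = y' := by
  by_cases hne : y' = pullback.snd q.left g z
  · exact ⟨z, specializes_rfl, hz, hne.symm⟩
  obtain ⟨r₀, hr₀⟩ := hz
  haveI : LocallyOfFiniteType f.left :=
    haveI : LocallyOfFiniteType (f.left ≫ S.hom) := by rw [Over.w]; infer_instance
    locallyOfFiniteType_of_comp _ S.hom
  obtain ⟨r, -, hr⟩ := Scheme.Pullback.exists_preimage_pullback (f := f.left) (g := pullback.fst q.left g) r₀ z hr₀
  haveI : IsLocallyNoetherian T.left := LocallyOfFiniteType.isLocallyNoetherian T.hom
  haveI : IsLocallyNoetherian Y' := LocallyOfFiniteType.isLocallyNoetherian g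
  haveI : LocallyOfFiniteType q.left :=
    haveI : LocallyOfFiniteType (q.left ≫ T.hom) := by rw [Over.w]; infer_instance
    locallyOfFiniteType_of_comp _ T.hom
  let P := pullback f.left (pullback.fst q.left g)
  let m : P ⟶ pullback q.left g := pullback.snd _ _
  let p : P ⟶ Y' := m ≫ pullback.snd q.left g
  have hpr : p r = pullback.snd q.left g z := by rw [Scheme.Hom.comp_apply]; exact congrArg _ hr
  obtain ⟨A, h, hA, hcl, hgen⟩ := DVRVal.exists_dvr_specializes p r y' (hpr ▸ hy) (hpr ▸ hne)
  haveI := hA
  haveI : IsFractionRing A (P.residueField r) := inferInstance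
  let gR := P.fromSpecResidueField r ≫ pullback.fst f.left (pullback.fst q.left g)
  obtain ⟨i, hi, hij⟩ := exists_lift hf hp A (P.residueField r) gR (h ≫ g) (by
    simp only [gR, Category.assoc]
    rw [pullback.condition_assoc, pullback.condition]
    exact (congrArg (· ≫ g) hgen.symm).trans (Category.assoc _ _ _) |> fun e => by
      simp only [p, m, Category.assoc] at e; exact e)
  let L : Spec (CommRingCat.of A) ⟶ pullback q.left g := pullback.lift (i ≫ f.left) h (by rw [Category.assoc, hi])
  have hL : Spec.map (CommRingCat.ofHom A.subtype) ≫ L = P.fromSpecResidueField r ≫ m := by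
    apply pullback.hom_ext
    · simp only [L, Category.assoc, pullback.lift_fst]
      refine hij.trans ?_
      simp only [gR, m, Category.assoc, pullback.condition]
    · simp only [L, Category.assoc, pullback.lift_snd]
      simpa [p, m] using hgen
  refine ⟨L (closedPoint A), ?_, ⟨i (closedPoint A), ?_⟩, ?_⟩
  · have h1 : (P.fromSpecResidueField r ≫ m) (closedPoint (P.residueField r)) = z := by
      rw [Scheme.Hom.comp_apply, Scheme.fromSpecResidueField_apply]; exact hr
    rw [← hL, Scheme.Hom.comp_apply] at h1
    rw [← h1]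
    exact (specializes_closedPoint _).map L.continuous
  · rw [← Scheme.Hom.comp_apply, ← Scheme.Hom.comp_apply, pullback.lift_fst]
  · rw [← Scheme.Hom.comp_apply, pullback.lift_snd]; exact hcl

/-- The image is closed. -/
theorem isClosed_range [IsSeparated q.left] (hf : W4c2lssmoduli.IsInvariantMor a f)
    (hp : W4c2lssmoduli.IsGUnivClosed a (f ≫ q)) : IsClosed (Set.range f.left) := by
  haveI : IsLocallyNoetherian S.left := LocallyOfFiniteType.isLocallyNoetherian S.hom
  haveI : LocallyOfFiniteType f.left :=
    haveI : LocallyOfFiniteType (f.left ≫ S.hom) := by rw [Over.w]; infer_instance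
    locallyOfFiniteType_of_comp _ S.hom
  rw [← closure_subset_iff_isClosed]
  intro s₁ hs₁
  obtain ⟨r, hr⟩ := H12.exists_specializes_of_mem_closure_range f.left s₁ hs₁
  by_cases hne : s₁ = f.left r
  · exact ⟨r, hne.symm⟩
  obtain ⟨A, h, hA, hcl, hgen⟩ := DVRVal.exists_dvr_specializes f.left r s₁ hr hne
  haveI := hA
  haveI : IsFractionRing A (R.left.residueField r) := inferInstance
  obtain ⟨i, hi, hij⟩ := exists_lift hf hp A (R.left.residueField r) (R.left.fromSpecResidueField r) (h ≫ q.left)
    ((congrArg (· ≫ q.left) hgen.symm).trans (Category.assoc _ _ _) |> fun e => by simp only [Category.assoc] at e; exact e)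
  have hdom : IsDominant (Spec.map (CommRingCat.ofHom (algebraMap A (R.left.residueField r)))) := by
    constructor
    show DenseRange (PrimeSpectrum.comap (algebraMap A (R.left.residueField r)))
    rw [PrimeSpectrum.denseRange_comap_iff_ker_le_nilRadical]
    intro x hx
    rw [(IsFractionRing.injective A (R.left.residueField r)) (hx.trans (map_zero _).symm)]
    exact zero_mem _
  haveI := hdom
  haveI : IsReduced (Spec (CommRingCat.of A)) := inferInstance
  have heq : i ≫ f.left = h :=
    ext_of_isDominant_of_isSeparated q.left (by rw [Category.assoc, hi])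
      (Spec.map (CommRingCat.ofHom (algebraMap A (R.left.residueField r)))) (hij.trans hgen.symm)
  exact ⟨i (closedPoint A), by rw [← Scheme.Hom.comp_apply, heq]; exact hcl⟩

end Groth.Agent.GUniv19
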